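import Cfsg.Agent.R2.Spec.X4.H18.E6
import Cfsg.Agent.R2.Spec.X3.Size
import Cfsg.Agent.H299.UF.E6Num

/-!
# Box X3 of S3435, packet P-E: rows `E₆(u)`, `²E₆(u)` (helper18)

By size: the product of the coprime orders `Φ₅, Φ₈, Φ₃Φ₁₂/g, Φ₄Φ₆/e` (at `X = ± u`), without the factor in the class of
`M`, contradicts `Cand.prod4`; small cases by hand.
-/

set_option autoImplicit false
set_option linter.unusedVariables false
set_option linter.unusedSectionVars false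

namespace Cfsg.Agent.R2.Spec.X3.H18

open Cfsg Cfsg.Agent.R2.Spec.X3
open Cfsg.Agent.R2.Spec.X4.H18 (nc cop_int liftN Cl E6Dat OmX d2_6 d3_6 e6Dat te6Dat pos_lt pos_le)
open Cfsg.Agent.H299.UF (cop_of_comb cop_of_comb_prime)

universe w

/-- small `M` -/
theorem small_M {p M : ℕ} {x : ℤ} {S : Type*} [Group S] (h : Cand p x M S) :
    (x = 5 ∧ M = 13 ∧ p = 5) ∨ (x = 7 ∧ M = 19 ∧ p = 7) ∨ 85 ≤ M ∧ M ≠ 757 ∧ M ≠ 703 := by
  obtain ⟨k, hk, hx⟩ := h.ex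
  have h5 := h.h5
  have key : ∀ n : ℕ, x.natAbs = n → p ∣ n := fun n hn => by
    rw [← hn, hx]
    exact dvd_pow_self p (by omega)
  have k5 : x = 5 → p = 5 := fun e => (Nat.prime_dvd_prime_iff_eq h.hp (by norm_num)).1 (key 5 (by rw [e]; rfl))
  have k7 : x = 7 → p = 7 := fun e => (Nat.prime_dvd_prime_iff_eq h.hp (by norm_num)).1 (key 7 (by rw [e]; rfl))
  have k3 : ∀ n : ℕ, x.natAbs = 3 ^ n → False := fun n e => by
    have h1 := key _ e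
    have h2 := (Nat.prime_dvd_prime_iff_eq h.hp Nat.prime_three).1 (h.hp.dvd_of_dvd_pow h1)
    omega
  have k9 : x ≠ 9 := fun e => k3 2 (by rw [e]; rfl)
  have k27 : x ≠ 27 := fun e => k3 3 (by rw [e]; rfl)
  clear hx key k3 hk
  rcases h.typ with ⟨h1, h2, h3⟩ | ⟨δ, h1, h2, h3, h4⟩
  · by_cases hx : x ≤ 40
    · have hx5 : x = 5 → p = 5 := k5
      clear * - h1 h2 h3 hx k5 k9
      interval_cases x <;> omega
    · have : 41 * 41 ≤ x ^ 2 := by nlinarith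
      right; right
      omega
  · by_cases hx : x ≤ 50 ∧ -50 ≤ x
    · obtain ⟨hx1, hx2⟩ := hx
      rcases h3 with ⟨rfl, h3⟩ | ⟨rfl, h3⟩
      · clear * - h1 h2 h3 h4 hx1 hx2 k7 k27
        rcases h2 with h2 | h2
        · interval_cases x <;> omega
        · interval_cases x <;> omega
      · clear * - h1 h2 h3 h4 hx1 hx2 k7 k27
        rcases h2 with h2 | h2
        · interval_cases x <;> omega
        · interval_cases x <;> omega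
    · have h6 : 2450 ≤ x ^ 2 + x := by
        rcases (by omega : 51 ≤ x ∨ x ≤ -51) with h6 | h6 <;> nlinarith
      right; right
      rcases h3 with ⟨rfl, -⟩ | ⟨rfl, -⟩ <;> omega

/-- the numbers -/
structure VX (u g : ℕ) (X : ℤ) where
  e : ℕ
  m3 : ℕ
  m4 : ℕ
  a5 : ℕ
  a6 : ℕ
  a8 : ℕ
  a12 : ℕ
  he : (e = 1 ∧ u % 2 = 0) ∨ (e = 2 ∧ u % 2 = 1)
  h3 : (g : ℤ) * m3 = X ^ 2 + X + 1
  h4 : (e : ℤ) * m4 = X ^ 2 + 1
  h5 : (a5 : ℤ) = X ^ 4 + X ^ 3 + X ^ 2 + X + 1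
  h6 : (a6 : ℤ) = X ^ 2 - X + 1
  h8 : (a8 : ℤ) = X ^ 4 + 1
  h12 : (a12 : ℤ) = X ^ 4 - X ^ 2 + 1

section vx

variable {u g : ℕ} {X : ℤ} (hX : X = u ∨ X = -u) (hu : 2 ≤ u)
  (hg : (g = 1 ∧ ¬ (3 : ℤ) ∣ X - 1) ∨ g = 3 ∧ (3 : ℤ) ∣ X - 1)

include hX hu

theorem pos5 : 0 ≤ X ^ 4 + X ^ 3 + X ^ 2 + X + 1 := by
  obtain ⟨t, rfl⟩ : ∃ t, u = t + 2 := ⟨u - 2, by omega⟩
  rcases hX with rfl | rfl
  · positivity
  · push_cast
    have e : (-((t : ℤ) + 2)) ^ 4 + (-((t : ℤ) + 2)) ^ 3 + (-((t : ℤ) + 2)) ^ 2 + -((t : ℤ) + 2) + 1 =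
      t ^ 4 + 7 * t ^ 3 + 19 * t ^ 2 + 23 * t + 11 := by ring
    rw [e]
    positivity

include hg

theorem exists_vx : Nonempty (VX u g X) := by
  obtain ⟨a5, h5⟩ : ∃ n : ℕ, (n : ℤ) = X ^ 4 + X ^ 3 + X ^ 2 + X + 1 := ⟨_, Int.toNat_of_nonneg (pos5 hX hu)⟩
  obtain ⟨a8, h8⟩ : ∃ n : ℕ, (n : ℤ) = X ^ 4 + 1 := ⟨_, Int.toNat_of_nonneg (by positivity)⟩
  obtain ⟨a6, h6⟩ : ∃ n : ℕ, (n : ℤ) = X ^ 2 - X + 1 := ⟨_, Int.toNat_of_nonneg (by nlinarith [sq_nonneg (X - 1)])⟩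
  obtain ⟨a12, h12⟩ : ∃ n : ℕ, (n : ℤ) = X ^ 4 - X ^ 2 + 1 :=
    ⟨_, Int.toNat_of_nonneg (by nlinarith [sq_nonneg (X ^ 2 - 1), sq_nonneg X])⟩
  obtain ⟨m3, h3⟩ : ∃ n : ℕ, (g : ℤ) * n = X ^ 2 + X + 1 := by
    rcases hg with ⟨rfl, -⟩ | ⟨rfl, k, hk⟩
    · exact ⟨(X ^ 2 + X + 1).toNat, by
        rw [Int.toNat_of_nonneg (by nlinarith [sq_nonneg (X + 1)])]; push_cast; ring⟩
    · have e : X = 3 * k + 1 := by linarith
      refine ⟨(3 * k ^ 2 + 3 * k + 1).toNat, ?_⟩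
      have h0 : 0 ≤ 3 * k ^ 2 + 3 * k + 1 := by
        rcases (by omega : 0 ≤ k ∨ k ≤ -1) with h | h <;> nlinarith
      rw [Int.toNat_of_nonneg h0, e]
      push_cast
      ring
  obtain ⟨e, m4, he, h4⟩ : ∃ e n : ℕ, ((e = 1 ∧ u % 2 = 0) ∨ (e = 2 ∧ u % 2 = 1)) ∧ (e : ℤ) * n = X ^ 2 + 1 := by
    rcases Nat.mod_two_eq_zero_or_one u with h0 | h0
    · exact ⟨1, (X ^ 2 + 1).toNat, Or.inl ⟨rfl, h0⟩, by
        rw [Int.toNat_of_nonneg (by positivity)]; push_cast; ring⟩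
    · obtain ⟨k, hk⟩ : ∃ k : ℤ, X = 2 * k + 1 := ⟨X / 2, by rcases hX with h | h <;> omega⟩
      refine ⟨2, (2 * k ^ 2 + 2 * k + 1).toNat, Or.inr ⟨rfl, h0⟩, ?_⟩
      have h0 : 0 ≤ 2 * k ^ 2 + 2 * k + 1 := by nlinarith [sq_nonneg k, sq_nonneg (k + 1)]
      rw [Int.toNat_of_nonneg h0, hk]
      push_cast
      ring
  exact ⟨⟨e, m3, m4, a5, a6, a8, a12, he, h3, h4, h5, h6, h8, h12⟩⟩

end vx

namespace VX

variable {u g : ℕ} {X : ℤ} (A : VX u g X)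

theorem m4_odd (hX : X = u ∨ X = -u) : ¬ 2 ∣ A.m4 := by
  rintro ⟨j, hj⟩
  have h4 := A.h4
  rcases A.he with ⟨h1, h2⟩ | ⟨h1, h2⟩
  · obtain ⟨k, hk⟩ : ∃ k : ℤ, X = 2 * k := ⟨X / 2, by rcases hX with h | h <;> omega⟩
    rw [h1, hj, hk] at h4
    push_cast at h4
    have : (2 : ℤ) * j = 2 * (2 * k * k) + 1 := by linarith
    omega
  · obtain ⟨k, hk⟩ : ∃ k : ℤ, X = 2 * k + 1 := ⟨X / 2, by rcases hX with h | h <;> omega⟩
    rw [h1, hj, hk] at h4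
    push_cast at h4
    have : (4 : ℤ) * j = 4 * (k * k + k) + 2 := by linarith
    omega

theorem a6_odd : ¬ 2 ∣ A.a6 := by
  rintro ⟨j, hj⟩
  have h := A.h6
  rw [hj] at h
  push_cast at h
  obtain ⟨k, hk⟩ := Int.even_mul_succ_self (X - 1)
  have : (2 : ℤ) * j = 2 * k + 1 := by
    rw [h]
    linarith [hk]
  omega

theorem cop_m4_3 : ¬ 3 ∣ A.m4 := by
  rintro ⟨j, hj⟩
  have h := A.h4
  rw [hj] at h
  push_cast at h
  have h1 : (X ^ 2 + 1) % 3 = 0 := by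
    rw [← h]
    have : (A.e : ℤ) * (3 * j) = 3 * (A.e * j) := by ring
    rw [this]
    exact Int.mul_emod_right _ _
  have h2 : X % 3 = 0 ∨ X % 3 = 1 ∨ X % 3 = 2 := by omega
  rcases h2 with h2 | h2 | h2 <;> simp [Int.add_emod, pow_succ, Int.mul_emod, h2] at h1

theorem c_5_8 : Nat.Coprime A.a5 A.a8 := cop_of_comb (x := (-1) * X ^ 1 + 1 * X ^ 2 + (-1) * X ^ 3)
    (y := 1 + 1 * X ^ 1 + 1 * X ^ 3) (by rw [A.h5, A.h8]; ring)

theorem c_5_12 : Nat.Coprime A.a5 A.a12 := cop_of_comb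
    (x := 2 + (-1) * X ^ 1 + (-2) * X ^ 2 + 2 * X ^ 3)
    (y := (-1) + (-1) * X ^ 1 + (-2) * X ^ 3) (by rw [A.h5, A.h12]; ring)

theorem c_8_12 : Nat.Coprime A.a8 A.a12 := cop_of_comb (x := 1 + (-1) * X ^ 2) (y := 1 * X ^ 2)
    (by rw [A.h8, A.h12]; ring)

theorem c_5_3 : Nat.Coprime A.a5 A.m3 := cop_of_comb (x := -X) (y := (1 + X ^ 3) * g) (by
  have : -X * A.a5 + (1 + X ^ 3) * g * A.m3 = -X * A.a5 + (1 + X ^ 3) * (g * A.m3) := by ring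
  rw [this, A.h3, A.h5]; ring)

theorem c_5_6 : Nat.Coprime A.a5 A.a6 := cop_of_comb (x := -X) (y := 1 + X * (X ^ 2 + 2 * X + 2))
  (by rw [A.h5, A.h6]; ring)

theorem c_5_4 : Nat.Coprime A.a5 A.m4 := cop_of_comb (x := 1) (y := -(X ^ 2 + X) * A.e) (by
  have : 1 * (A.a5 : ℤ) + -(X ^ 2 + X) * A.e * A.m4 = A.a5 - (X ^ 2 + X) * (A.e * A.m4) := by ring
  rw [this, A.h4, A.h5]; ring)

theorem c_8_3 : Nat.Coprime A.a8 A.m3 := cop_of_comb (x := -X) (y := (1 + X ^ 3 - X ^ 2) * g) (by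
  have : -X * A.a8 + (1 + X ^ 3 - X ^ 2) * g * A.m3 =
    -X * A.a8 + (1 + X ^ 3 - X ^ 2) * (g * A.m3) := by ring
  rw [this, A.h3, A.h8]; ring)

theorem c_8_6 : Nat.Coprime A.a8 A.a6 := cop_of_comb (x := X) (y := 1 - X ^ 3 - X ^ 2)
  (by rw [A.h8, A.h6]; ring)

theorem c_8_4 (hX : X = u ∨ X = -u) : Nat.Coprime A.a8 A.m4 :=
  cop_of_comb_prime Nat.prime_two (x := 1) (y := -(X ^ 2 - 1) * A.e) (by
  have : 1 * (A.a8 : ℤ) + -(X ^ 2 - 1) * A.e * A.m4 = A.a8 - (X ^ 2 - 1) * (A.e * A.m4) := by ring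
  rw [this, A.h4, A.h8]; push_cast; ring) (A.m4_odd hX)

theorem c_3_4 : Nat.Coprime A.m3 A.m4 := cop_of_comb (x := -X * g) (y := (1 + X) * A.e) (by
  have : -X * g * A.m3 + (1 + X) * A.e * A.m4 = -X * (g * A.m3) + (1 + X) * (A.e * A.m4) := by
    ring
  rw [this, A.h3, A.h4]; ring)

theorem c_3_6 : Nat.Coprime A.m3 A.a6 := by
  refine cop_of_comb_prime Nat.prime_two (x := -(X - 1) * g) (y := (X - 1) + 2) ?_ A.a6_odd
  have : -(X - 1) * g * A.m3 + ((X - 1) + 2) * A.a6 =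
    -(X - 1) * (g * A.m3) + ((X - 1) + 2) * A.a6 := by ring
  rw [this, A.h3, A.h6]; push_cast; ring

theorem c_12_6 : Nat.Coprime A.a12 A.a6 := cop_of_comb_prime Nat.prime_two (x := X)
  (y := 2 - X * (X ^ 2 + X - 1)) (by rw [A.h12, A.h6]; push_cast; ring) A.a6_odd

theorem c_12_4 : Nat.Coprime A.a12 A.m4 := cop_of_comb_prime Nat.prime_three (x := 1) (y := -(X ^ 2 - 2) * A.e) (by
  have : 1 * (A.a12 : ℤ) + -(X ^ 2 - 2) * A.e * A.m4 = A.a12 - (X ^ 2 - 2) * (A.e * A.m4) := by ring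
  rw [this, A.h4, A.h12]; push_cast; ring) A.cop_m4_3

end VX

/-! ### sizes -/

section size

variable {u g : ℕ} {X : ℤ}

/-- bounds for `u ≥ 4` -/
theorem VX.bounds (A : VX u g X) (hX : X = u ∨ X = -u) (hu : 4 ≤ u) :
    3 * (u : ℤ) ^ 4 ≤ 4 * A.a5 ∧ (u : ℤ) ^ 4 ≤ A.a8 ∧ 256 * (A.a8 : ℤ) ≤ 257 * u ^ 4 ∧ (A.a12 : ℤ) ≤ u ^ 4 ∧
    (u : ℤ) ^ 4 ≤ (g * A.m3) * A.a6 ∧ (u : ℤ) ^ 6 ≤ A.a12 * (A.e * A.m4) ∧ (u : ℤ) ^ 2 ≤ A.e * A.m4 ∧
    50 * (X ^ 6 + X ^ 3 + 1) ≤ 51 * (u : ℤ) ^ 6 := by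
  rw [A.h3, A.h4, A.h5, A.h6, A.h8, A.h12]
  obtain ⟨t, rfl⟩ : ∃ t, u = t + 4 := ⟨u - 4, by omega⟩
  rcases hX with rfl | rfl <;> refine ⟨?_, ?_, ?_, ?_, ?_, ?_, ?_, ?_⟩ <;> push_cast <;> apply pos_le <;> clear * - <;>
    ring_nf <;> positivity

theorem mulA {a b c d U : ℤ} (hU : 0 ≤ U) (h5 : 3 * U ^ 4 ≤ 4 * a) (h8 : U ^ 4 ≤ b) (h36 : U ^ 4 ≤ c) (h124 : U ^ 6 ≤ d) :
    3 * U ^ 18 ≤ 4 * (a * b * (c * d)) := by
  have a0 : 0 ≤ 4 * a := le_trans (by positivity) h5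
  have b0 : 0 ≤ b := le_trans (by positivity) h8
  have c0 : 0 ≤ c := le_trans (by positivity) h36
  have h1 : (3 * U ^ 4) * U ^ 4 ≤ (4 * a) * b := mul_le_mul h5 h8 (by positivity) a0
  have h2 : U ^ 4 * U ^ 6 ≤ c * d := mul_le_mul h36 h124 (by positivity) c0
  have h3 := mul_le_mul h1 h2 (by positivity) (mul_nonneg a0 b0)
  calc 3 * U ^ 18 = (3 * U ^ 4) * U ^ 4 * (U ^ 4 * U ^ 6) := by ring
    _ ≤ _ := h3
    _ = 4 * (a * b * (c * d)) := by ring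

theorem mulB {a b c d U : ℤ} (hU : 0 ≤ U) (h5 : 3 * U ^ 4 ≤ 4 * a) (h8 : U ^ 4 ≤ b) (h36 : U ^ 4 ≤ c) (h124 : U ^ 2 ≤ d) :
    3 * U ^ 14 ≤ 4 * (a * b * (c * d)) := by
  have a0 : 0 ≤ 4 * a := le_trans (by positivity) h5
  have b0 : 0 ≤ b := le_trans (by positivity) h8
  have c0 : 0 ≤ c := le_trans (by positivity) h36
  have h1 : (3 * U ^ 4) * U ^ 4 ≤ (4 * a) * b := mul_le_mul h5 h8 (by positivity) a0
  have h2 : U ^ 4 * U ^ 2 ≤ c * d := mul_le_mul h36 h124 (by positivity) c0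
  have h3 := mul_le_mul h1 h2 (by positivity) (mul_nonneg a0 b0)
  calc 3 * U ^ 14 = (3 * U ^ 4) * U ^ 4 * (U ^ 4 * U ^ 2) := by ring
    _ ≤ _ := h3
    _ = 4 * (a * b * (c * d)) := by ring

theorem mulC {a c d U : ℤ} (hU : 0 ≤ U) (h5 : 3 * U ^ 4 ≤ 4 * a) (h36 : U ^ 4 ≤ c) (h124 : U ^ 6 ≤ d) :
    3 * U ^ 14 ≤ 4 * (a * (c * d)) := by
  have a0 : 0 ≤ 4 * a := le_trans (by positivity) h5
  have c0 : 0 ≤ c := le_trans (by positivity) h36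
  have h2 : U ^ 4 * U ^ 6 ≤ c * d := mul_le_mul h36 h124 (by positivity) c0
  have h3 := mul_le_mul h5 h2 (by positivity) a0
  calc 3 * U ^ 14 = (3 * U ^ 4) * (U ^ 4 * U ^ 6) := by ring
    _ ≤ _ := h3
    _ = 4 * (a * (c * d)) := by ring

theorem kill9 {P M Φ e g u : ℤ} (hP : P ^ 2 < 800 * M ^ 5) (hM : 0 ≤ M) (hgM : g * M ≤ Φ) (hΦ : 50 * Φ ≤ 51 * u ^ 6)
    (hg : g = 1 ∨ g = 3) (he : e = 1 ∧ 4 ≤ u ∨ e = 2 ∧ 5 ≤ u) (hQ : 3 * u ^ 18 ≤ 4 * (g * e * P)) : False := by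
  have hu : 4 ≤ u := by omega
  have hg0 : 0 ≤ g * M := by rcases hg with rfl | rfl <;> linarith
  have hM5 : 0 ≤ M ^ 5 := by positivity
  have a1 : (g * e * P) ^ 2 < 800 * e ^ 2 * (g * M) ^ 5 := by
    have e1 : (g * e * P) ^ 2 = g ^ 2 * e ^ 2 * P ^ 2 := by ring
    have e2 : (g * M) ^ 5 = g ^ 5 * M ^ 5 := by ring
    rw [e1, e2]
    rcases hg with rfl | rfl <;> rcases he with ⟨rfl, -⟩ | ⟨rfl, -⟩ <;> linarith
  have a2 : (g * M) ^ 5 ≤ Φ ^ 5 := pow_le_pow_left₀ hg0 hgM 5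
  have a3 : (50 * Φ) ^ 5 ≤ (51 * u ^ 6) ^ 5 := pow_le_pow_left₀ (by linarith) hΦ 5
  have a4 : (3 * u ^ 18) ^ 2 ≤ (4 * (g * e * P)) ^ 2 := pow_le_pow_left₀ (by positivity) hQ 2
  have e1 : (3 * u ^ 18) ^ 2 = 9 * (u ^ 30 * u ^ 6) := by ring
  have e2 : (4 * (g * e * P)) ^ 2 = 16 * (g * e * P) ^ 2 := by ring
  have e3 : (51 * u ^ 6) ^ 5 = 345025251 * u ^ 30 := by ring
  have e4 : (50 * Φ) ^ 5 = 312500000 * Φ ^ 5 := by ring
  rw [e1, e2] at a4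
  rw [e3, e4] at a3
  have hZ : 0 < u ^ 30 := by positivity
  rcases he with ⟨rfl, h4⟩ | ⟨rfl, h4⟩
  · have h6 : (4 : ℤ) ^ 6 ≤ u ^ 6 := pow_le_pow_left₀ (by norm_num) h4 6
    have h7 := mul_le_mul_of_nonneg_left h6 hZ.le
    norm_num at a1 h7
    linarith
  · have h6 : (5 : ℤ) ^ 6 ≤ u ^ 6 := pow_le_pow_left₀ (by norm_num) h4 6
    have h7 := mul_le_mul_of_nonneg_left h6 hZ.le
    norm_num at a1 h7
    linarith

theorem kill8 {P M g u : ℤ} (hP : P ^ 2 < 800 * M ^ 5) (hM : 0 ≤ M) (hΦ : 256 * M ≤ 257 * u ^ 4)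
    (hg : g = 1 ∨ g = 3) (hu : 4 ≤ u) (hQ : 3 * u ^ 14 ≤ 4 * (g * P)) : False := by
  have hM5 : 0 ≤ M ^ 5 := by positivity
  have a1 : (g * P) ^ 2 < 7200 * M ^ 5 := by
    have e1 : (g * P) ^ 2 = g ^ 2 * P ^ 2 := by ring
    rw [e1]
    rcases hg with rfl | rfl <;> linarith
  have a3 : (256 * M) ^ 5 ≤ (257 * u ^ 4) ^ 5 := pow_le_pow_left₀ (by linarith) hΦ 5
  have a4 : (3 * u ^ 14) ^ 2 ≤ (4 * (g * P)) ^ 2 := pow_le_pow_left₀ (by positivity) hQ 2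
  have e1 : (3 * u ^ 14) ^ 2 = 9 * (u ^ 20 * u ^ 8) := by ring
  have e2 : (4 * (g * P)) ^ 2 = 16 * (g * P) ^ 2 := by ring
  have e3 : (257 * u ^ 4) ^ 5 = 1121154893057 * u ^ 20 := by ring
  have e4 : (256 * M) ^ 5 = 1099511627776 * M ^ 5 := by ring
  rw [e1, e2] at a4
  rw [e3, e4] at a3
  have hZ : 0 < u ^ 20 := by positivity
  have h6 : (4 : ℤ) ^ 8 ≤ u ^ 8 := pow_le_pow_left₀ (by norm_num) hu 8
  have h7 := mul_le_mul_of_nonneg_left h6 hZ.le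
  norm_num at h7
  linarith

theorem kill12 {P M g e u : ℤ} (hP : P ^ 2 < 800 * M ^ 5) (hM : 0 ≤ M) (hΦ : M ≤ u ^ 4)
    (hg : g = 1 ∨ g = 3) (he : e = 1 ∧ 4 ≤ u ∨ e = 2 ∧ 5 ≤ u) (hQ : 3 * u ^ 14 ≤ 4 * (g * e * P)) : False := by
  have hu : 4 ≤ u := by omega
  have hM5 : 0 ≤ M ^ 5 := by positivity
  have a3 : M ^ 5 ≤ (u ^ 4) ^ 5 := pow_le_pow_left₀ hM hΦ 5
  have a1 : (g * e * P) ^ 2 < 7200 * e ^ 2 * M ^ 5 := by
    have e1 : (g * e * P) ^ 2 = g ^ 2 * e ^ 2 * P ^ 2 := by ring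
    rw [e1]
    rcases hg with rfl | rfl <;> rcases he with ⟨rfl, -⟩ | ⟨rfl, -⟩ <;> linarith
  have a4 : (3 * u ^ 14) ^ 2 ≤ (4 * (g * e * P)) ^ 2 := pow_le_pow_left₀ (by positivity) hQ 2
  have e1 : (3 * u ^ 14) ^ 2 = 9 * (u ^ 20 * u ^ 8) := by ring
  have e2 : (4 * (g * e * P)) ^ 2 = 16 * (g * e * P) ^ 2 := by ring
  have e3 : (u ^ 4) ^ 5 = u ^ 20 := by ring
  rw [e1, e2] at a4
  rw [e3] at a3
  have hZ : 0 < u ^ 20 := by positivity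
  rcases he with ⟨rfl, h4⟩ | ⟨rfl, h4⟩
  · have h6 : (4 : ℤ) ^ 8 ≤ u ^ 8 := pow_le_pow_left₀ (by norm_num) h4 8
    have h7 := mul_le_mul_of_nonneg_left h6 hZ.le
    norm_num at a1 h7
    linarith
  · have h6 : (5 : ℤ) ^ 8 ≤ u ^ 8 := pow_le_pow_left₀ (by norm_num) h4 8
    have h7 := mul_le_mul_of_nonneg_left h6 hZ.le
    norm_num at a1 h7
    linarith

end size

/-! ### the row -/

section row

variable {p M : ℕ} {x : ℤ} {S : Type*} [Group S] [Finite S] {v u g : ℕ} {X : ℤ}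

theorem ord_dvd {n m : ℕ} (h : ∃ y : S, orderOf y = n) (hm : m ∣ n) : ∃ y : S, orderOf y = m := by
  obtain ⟨y, rfl⟩ := h
  obtain ⟨z, -, hz⟩ := H371.exists_orderOf_of_dvd (isOfFinOrder_of_finite y) hm
  exact ⟨z, hz⟩

theorem r5 (h : Cand p x M S) {r : ℕ} (hr : r.Prime) (hrM : r ∣ M) : 5 ≤ r := by
  have h1 := h.prime_facts hr hrM
  have h2 := hr.two_le
  have h4 : r ≠ 4 := by rintro rfl; norm_num at hr
  omega

theorem e6_Cl (h : Cand p x M S) (D : E6Dat v u g X S) {r : ℕ} (hr : r.Prime) (hrM : r ∣ M) : Cl r X := by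
  refine D.near r hr (h.prime_facts hr hrM).1 (h.dvd_card hrM) ?_
  rintro ⟨y, hy⟩
  exact h.not_two_dvd hr hrM (g := y) (by rw [hy]; exact dvd_mul_left _ _) (by rw [hy]; exact dvd_mul_right _ _)

/-- the class of `M` -/
theorem e6_M (h : Cand p x M S) (D : E6Dat v u g X S) :
    (M : ℤ) ∣ X ^ 6 + X ^ 3 + 1 ∨ (M : ℤ) ∣ X ^ 4 - X ^ 2 + 1 ∨ ((M : ℤ) ∣ X ^ 4 + 1 ∧ u % 2 = 0) := by
  have hk5 : ∀ r : ℕ, r.Prime → r ∣ M → 5 ≤ r := fun r hr hrM => r5 h hr hrM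
  have hcl : ∀ r : ℕ, r.Prime → r ∣ M → Cl r X := fun r hr hrM => e6_Cl h D hr hrM
  obtain ⟨r, hr, hrM⟩ := h.exists_prime
  obtain ⟨y, hy⟩ := h.elt
  obtain ⟨b, n, O⟩ := D.up y
  rw [hy] at O
  have n6 := fun r hr hrM => (hcl r hr hrM).n6 hr (hk5 r hr hrM)
  have n4 := fun r hr hrM => (hcl r hr hrM).n4 hr (hk5 r hr hrM)
  have n5 := fun r hr hrM => (hcl r hr hrM).n5 hr (hk5 r hr hrM)
  have hvk : ¬ v ∣ M := by
    intro hvk
    have h1 := hcl v D.vp hvk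
    have h2 : (v : ℤ) ∣ X := by
      have : (v : ℤ) ∣ u := Int.natCast_dvd_natCast.2 D.vu
      rcases D.hX with h | h <;> rw [h]
      · exact this
      · exact this.neg_right
    have h3 : (v : ℤ) ∣ 1 := by
      rcases h1 with h1 | h1 | h1
      · have := dvd_sub h1 (h2.mul_right (X ^ 3))
        have e : X ^ 4 + 1 - X * X ^ 3 = 1 := by ring
        rwa [e] at this
      · have := dvd_sub h1 (h2.mul_right (X ^ 3 - X))
        have e : X ^ 4 - X ^ 2 + 1 - X * (X ^ 3 - X) = 1 := by ring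
        rwa [e] at this
      · have := dvd_sub h1 (h2.mul_right (X ^ 5 + X ^ 2))
        have e : X ^ 6 + X ^ 3 + 1 - X * (X ^ 5 + X ^ 2) = 1 := by ring
        rwa [e] at this
    have h4 := Int.le_of_dvd (by norm_num) h3
    have := D.vp.two_le
    omega
  have hb : b = 0 := by
    by_contra hb
    exact hvk (by rw [O.eq]; exact (dvd_pow_self v hb).mul_right _)
  have hkn : M = n := by rw [O.eq, hb, pow_zero, one_mul]
  have h0 := O.s0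
  rw [← hkn] at h0
  have hrM' : (r : ℤ) ∣ M := Int.natCast_dvd_natCast.2 hrM
  rcases h0 with h0 | h0 | h0 | h0 | h0 | h0
  · right; right
    have hc : IsCoprime (M : ℤ) (X ^ 2 - 1) := cop_int fun r hr hrM hd => n6 r hr hrM (hd.trans (d2_6 X))
    have h1 : (M : ℤ) ∣ X ^ 4 + 1 := hc.dvd_of_dvd_mul_right h0
    refine ⟨h1, ?_⟩
    by_contra hodd
    obtain ⟨y, hy⟩ := D.ex8
    have hkN : M ∣ orderOf y := liftN (D.cop hk5) hy h0
    have h2N : 2 ∣ orderOf y := by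
      refine liftN (g := g) ?_ hy ?_
      · rcases D.g13 with h | h <;> rw [h] <;> norm_num
      · refine Dvd.dvd.mul_right ?_ _
        have : X % 2 = 1 := by rcases D.hX with h | h <;> omega
        have h3 : (X ^ 4 + 1) % 2 = 0 := by simp [pow_succ, Int.add_emod, Int.mul_emod, this]
        exact Int.dvd_of_emod_eq_zero h3
    exact h.not_two_dvd hr hrM (hrM.trans hkN) h2N
  · exact absurd (hrM'.trans h0) (n5 r hr hrM)
  · exact absurd (hrM'.trans h0) (n4 r hr hrM)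
  · exact absurd (hrM'.trans h0) (n6 r hr hrM)
  · right; left
    have hc : IsCoprime (M : ℤ) (X ^ 2 + X + 1) := cop_int fun r hr hrM hd => n6 r hr hrM (hd.trans (d3_6 X))
    exact hc.dvd_of_dvd_mul_right h0
  · exact Or.inl h0

/-- the element orders -/
theorem e6_ords (D : E6Dat v u g X S) (A : VX u g X) : (∃ y : S, orderOf y = A.a5) ∧ (∃ y : S, orderOf y = A.a8) ∧
    (∃ y : S, orderOf y = A.m3 * A.a12) ∧ (∃ y : S, orderOf y = A.m4 * A.a6) := by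
  have hX3 : ∀ {n : ℕ}, (∀ c : ℤ, X = 3 * c + 1 → ¬ (3 : ℤ) ∣ n) → n.Coprime g := by
    intro n hn
    rcases D.hg with ⟨hg, -⟩ | ⟨hg, c, hc⟩
    · rw [hg]; exact Nat.coprime_one_right _
    · rw [hg, Nat.coprime_comm, Nat.Prime.coprime_iff_not_dvd Nat.prime_three]
      intro h3
      exact hn c (by linarith) (by exact_mod_cast h3)
  refine ⟨?_, ?_, ?_, ?_⟩
  · obtain ⟨y, hy⟩ := D.ex5
    refine ord_dvd ⟨y, rfl⟩ (liftN (hX3 fun c hc h3 => ?_) hy ⟨X ^ 2 - 1, by rw [A.h5]; ring⟩)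
    rw [A.h5, hc] at h3
    obtain ⟨j, hj⟩ := h3
    have : (3 : ℤ) * (j - (27 * c ^ 4 + 45 * c ^ 3 + 30 * c ^ 2 + 10 * c + 1)) = 2 := by linear_combination -hj
    omega
  · obtain ⟨y, hy⟩ := D.ex8
    refine ord_dvd ⟨y, rfl⟩ (liftN (hX3 fun c hc h3 => ?_) hy ⟨X ^ 2 - 1, by rw [A.h8]⟩)
    rw [A.h8, hc] at h3
    obtain ⟨j, hj⟩ := h3
    have : (3 : ℤ) * (j - (27 * c ^ 4 + 36 * c ^ 3 + 18 * c ^ 2 + 4 * c)) = 2 := by linear_combination -hj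
    omega
  · obtain ⟨y, hy⟩ := D.ex12
    refine ⟨y, ?_⟩
    have hg0 : (g : ℤ) ≠ 0 := by rcases D.g13 with h | h <;> rw [h] <;> norm_num
    have h1 : (g : ℤ) * (orderOf y : ℕ) = g * ((A.m3 : ℤ) * A.a12) := by
      rw [hy, ← A.h12, ← A.h3]; ring
    have h2 := mul_left_cancel₀ hg0 h1
    exact_mod_cast h2
  · obtain ⟨y, hy⟩ := D.ex4
    refine ord_dvd ⟨y, rfl⟩ ?_
    have e1 : (X ^ 4 - 1) * (X ^ 2 - X + 1) = (X ^ 2 - 1) * (A.e * (A.m4 * A.a6)) := by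
      rw [A.h6, ← mul_assoc (A.e : ℤ), A.h4]; ring
    rw [e1] at hy
    have hd : (A.m4 : ℤ) * A.a6 ∣ (orderOf y : ℕ) := by
      rcases D.hg with ⟨hg, -⟩ | ⟨hg, c, hc⟩
      · have hgz : (g : ℤ) = 1 := by rw [hg]; norm_num
        rw [hgz, one_mul] at hy
        exact ⟨(X ^ 2 - 1) * A.e, by rw [hy]; ring⟩
      · have hgz : (g : ℤ) = 3 := by rw [hg]; norm_num
        rw [hgz] at hy
        refine ⟨c * (X + 1) * A.e, ?_⟩
        have e2 : X ^ 2 - 1 = 3 * c * (X + 1) := by linear_combination (X + 1) * hc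
        rw [e2] at hy
        have : (3 : ℤ) * (orderOf y : ℕ) = 3 * (A.m4 * A.a6 * (c * (X + 1) * A.e)) := by rw [hy]; ring
        exact mul_left_cancel₀ (by norm_num) this
    exact_mod_cast hd

/-- the orders prime to `M` -/
theorem e6_copM (h : Cand p x M S) (D : E6Dat v u g X S) (A : VX u g X) :
    A.a5.Coprime M ∧ A.m3.Coprime M ∧ (A.m4 * A.a6).Coprime M := by
  have hk5 : ∀ r : ℕ, r.Prime → r ∣ M → 5 ≤ r := fun r hr hrM => r5 h hr hrM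
  have hcl : ∀ r : ℕ, r.Prime → r ∣ M → Cl r X := fun r hr hrM => e6_Cl h D hr hrM
  refine ⟨Cand.cop_of fun r hr hrM hd => (hcl r hr hrM).n5 hr (hk5 r hr hrM) ?_,
    Cand.cop_of fun r hr hrM hd => (hcl r hr hrM).n6 hr (hk5 r hr hrM) ?_,
    Cand.cop_of fun r hr hrM hd => (hcl r hr hrM).n4 hr (hk5 r hr hrM) ?_⟩
  · exact (Int.natCast_dvd_natCast.2 hd).trans ⟨X ^ 2 - 1, by rw [A.h5]; ring⟩
  · exact (Int.natCast_dvd_natCast.2 hd).trans ⟨g * ((X ^ 3 + 1) * (X - 1)), by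
      have : (A.m3 : ℤ) * (g * ((X ^ 3 + 1) * (X - 1))) = (g * A.m3) * ((X ^ 3 + 1) * (X - 1)) := by ring
      rw [this, A.h3]; ring⟩
  · refine (Int.natCast_dvd_natCast.2 hd).trans ⟨(X ^ 2 - 1) * A.e, ?_⟩
    push_cast
    have : (A.m4 : ℤ) * A.a6 * ((X ^ 2 - 1) * A.e) = (X ^ 2 - 1) * ((A.e * A.m4) * A.a6) := by ring
    rw [this, A.h4, A.h6]; ring

/-- **the row**, `u ≥ 4` -/
theorem e6_big (h : Cand p x M S) (D : E6Dat v u g X S) (hu : 4 ≤ u) : False := by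
  have hM13 := h.M_ge
  have hM0 : (0 : ℤ) ≤ M := by positivity
  obtain ⟨A⟩ := exists_vx D.hX D.u2 D.hg
  obtain ⟨b5, b8, b8', b12, b36, b124, b4, b9⟩ := A.bounds D.hX hu
  obtain ⟨o5, o8, o12, o4⟩ := e6_ords D A
  obtain ⟨c5, c3, c46⟩ := e6_copM h D A
  have hg : (g : ℤ) = 1 ∨ (g : ℤ) = 3 := by rcases D.g13 with h | h <;> rw [h] <;> norm_num
  have he : ((A.e : ℤ) = 1 ∧ (4 : ℤ) ≤ u) ∨ ((A.e : ℤ) = 2 ∧ (5 : ℤ) ≤ u) := by
    rcases A.he with ⟨h1, h2⟩ | ⟨h1, h2⟩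
    · left; rw [h1]; exact ⟨by norm_num, by exact_mod_cast hu⟩
    · right; rw [h1]; exact ⟨by norm_num, by exact_mod_cast (show 5 ≤ u by omega)⟩
  have hu0 : (0 : ℤ) ≤ u := by positivity
  have n3 : ¬ 3 ∣ M := h.not_three
  have q3_46 := Nat.Coprime.mul_right A.c_3_4 A.c_3_6
  have q12_46 := Nat.Coprime.mul_right A.c_12_4 A.c_12_6
  have q5_46 := Nat.Coprime.mul_right A.c_5_4 A.c_5_6
  have q8_46 := Nat.Coprime.mul_right (A.c_8_4 D.hX) A.c_8_6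
  rcases e6_M h D with h1 | h1 | ⟨h1, h2⟩
  · have c8 : A.a8.Coprime M := Cand.cop_of fun r hr hrM hd => nc (T := X ^ 6 + X ^ 3 + 1) (D := X ^ 4 + 1) hr (r5 h hr hrM)
      (X ^ 2 + X + 1) (-X ^ 4 - X ^ 3 - X ^ 2 - X) 1 (by norm_num) (by ring) ((Int.natCast_dvd_natCast.2 hrM).trans h1)
      (by rw [← A.h8]; exact Int.natCast_dvd_natCast.2 hd)
    have c12 : A.a12.Coprime M := Cand.cop_of fun r hr hrM hd => nc (T := X ^ 6 + X ^ 3 + 1) (D := X ^ 4 - X ^ 2 + 1) hr (r5 h hr hrM)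
      (-X ^ 3) (X ^ 5 + X ^ 3 + X ^ 2 + 1) 1 (by norm_num) (by ring) ((Int.natCast_dvd_natCast.2 hrM).trans h1)
      (by rw [← A.h12]; exact Int.natCast_dvd_natCast.2 hd)
    have hP := h.prod4 o5 o8 o12 o4 c5 c8 (Nat.Coprime.mul_left c3 c12) c46 A.c_5_8
      (Nat.Coprime.mul_right A.c_5_3 A.c_5_12) q5_46 (Nat.Coprime.mul_right A.c_8_3 A.c_8_12) q8_46
      (Nat.Coprime.mul_left q3_46 q12_46)
    have hgM : (g : ℤ) * M ≤ X ^ 6 + X ^ 3 + 1 := by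
      have hpos : 0 < X ^ 6 + X ^ 3 + 1 := by nlinarith [sq_nonneg (X ^ 3 + 1), sq_nonneg (X ^ 3)]
      refine Int.le_of_dvd hpos ?_
      rcases D.hg with ⟨hg, -⟩ | ⟨hg, c, hc⟩
      · rw [hg]; push_cast; rw [one_mul]; exact h1
      · have h3 : (3 : ℤ) ∣ X ^ 6 + X ^ 3 + 1 := by
          have : X = 3 * c + 1 := by linarith
          rw [this]
          exact ⟨243 * c ^ 6 + 486 * c ^ 5 + 405 * c ^ 4 + 189 * c ^ 3 + 54 * c ^ 2 + 9 * c + 1, by ring⟩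
        have hc3 : IsCoprime (3 : ℤ) (M : ℤ) := by
          have := Nat.isCoprime_iff_coprime.2 ((Nat.Prime.coprime_iff_not_dvd Nat.prime_three).2 n3)
          exact_mod_cast this
        rw [hg]
        exact hc3.mul_dvd h3 h1
    refine kill9 (P := ((A.a5 * A.a8 * (A.m3 * A.a12) * (A.m4 * A.a6) : ℕ) : ℤ)) (M := M) (e := A.e) (g := g) (u := u)
      (by exact_mod_cast hP) hM0 hgM b9 hg he ?_
    have e1 : (g : ℤ) * A.e * ((A.a5 * A.a8 * (A.m3 * A.a12) * (A.m4 * A.a6) : ℕ) : ℤ) =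
        A.a5 * A.a8 * (((g * A.m3) * A.a6) * (A.a12 * (A.e * A.m4))) := by push_cast; ring
    rw [e1]
    exact mulA hu0 b5 b8 b36 b124
  · have c8 : A.a8.Coprime M := Cand.cop_of fun r hr hrM hd => nc (T := X ^ 4 - X ^ 2 + 1) (D := X ^ 4 + 1) hr (r5 h hr hrM)
      (X ^ 2) (1 - X ^ 2) 1 (by norm_num) (by ring) ((Int.natCast_dvd_natCast.2 hrM).trans h1)
      (by rw [← A.h8]; exact Int.natCast_dvd_natCast.2 hd)
    have hP := h.prod4 o5 o8 (ord_dvd o12 (dvd_mul_right _ _)) o4 c5 c8 c3 c46 A.c_5_8 A.c_5_3 q5_46 A.c_8_3 q8_46 q3_46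
    have hMle : (M : ℤ) ≤ u ^ 4 := by
      refine (Int.le_of_dvd ?_ h1).trans (by rw [← A.h12]; exact b12)
      nlinarith [sq_nonneg (X ^ 2 - 1), sq_nonneg X]
    refine kill12 (P := ((A.a5 * A.a8 * A.m3 * (A.m4 * A.a6) : ℕ) : ℤ)) (M := M) (e := A.e) (g := g) (u := u)
      (by exact_mod_cast hP) hM0 hMle hg he ?_
    have e1 : (g : ℤ) * A.e * ((A.a5 * A.a8 * A.m3 * (A.m4 * A.a6) : ℕ) : ℤ) =
        A.a5 * A.a8 * (((g * A.m3) * A.a6) * (A.e * A.m4)) := by push_cast; ring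
    rw [e1]
    exact mulB hu0 b5 b8 b36 b4
  · have c12 : A.a12.Coprime M := Cand.cop_of fun r hr hrM hd => nc (T := X ^ 4 + 1) (D := X ^ 4 - X ^ 2 + 1) hr (r5 h hr hrM)
      (1 - X ^ 2) (X ^ 2) 1 (by norm_num) (by ring) ((Int.natCast_dvd_natCast.2 hrM).trans h1)
      (by rw [← A.h12]; exact Int.natCast_dvd_natCast.2 hd)
    have hP := h.prod3 o5 o12 o4 c5 (Nat.Coprime.mul_left c3 c12) c46
      (Nat.Coprime.mul_right A.c_5_3 A.c_5_12) q5_46 (Nat.Coprime.mul_left q3_46 q12_46)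
    have hMle : 256 * (M : ℤ) ≤ 257 * u ^ 4 := by
      have := Int.le_of_dvd (by positivity) h1
      rw [← A.h8] at this
      linarith
    have he1 : (A.e : ℤ) = 1 := by
      rcases A.he with ⟨h3, -⟩ | ⟨-, h3⟩
      · rw [h3]; norm_num
      · omega
    refine kill8 (P := ((A.a5 * (A.m3 * A.a12) * (A.m4 * A.a6) : ℕ) : ℤ)) (M := M) (g := g) (u := u)
      (by exact_mod_cast hP) hM0 hMle hg (by exact_mod_cast hu) ?_
    have e1 : (g : ℤ) * ((A.a5 * (A.m3 * A.a12) * (A.m4 * A.a6) : ℕ) : ℤ) =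
        A.a5 * (((g * A.m3) * A.a6) * (A.a12 * (A.e * A.m4))) := by rw [he1]; push_cast; ring
    rw [e1]
    exact mulC hu0 b5 b36 b124

/-- an element of order `r`, `x ∈ {5, 7}` -/
theorem kill_r (h : Cand p x M S) {r : ℕ} (hr : ∃ y : S, orderOf y = r) (h1 : x = 5 ∧ p = 5 ∨ x = 7 ∧ p = 7)
    (h2 : r = 17 ∨ r = 41) : False := by
  obtain ⟨y, hy⟩ := hr
  have hs := h.spec y
  rw [hy] at hs
  rcases h1 with ⟨rfl, rfl⟩ | ⟨rfl, rfl⟩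
  · rw [Sp, cc_one (by norm_num)] at hs
    rcases h2 with rfl | rfl <;> norm_num at hs
  · rw [Sp, cc_three (by norm_num)] at hs
    rcases h2 with rfl | rfl <;> norm_num at hs

theorem e6_main (h : Cand p x M S) (D : E6Dat v u g X S) : False := by
  have hu2 := D.u2
  rcases (by omega : u = 2 ∨ u = 3 ∨ 4 ≤ u) with hu | hu | hu
  · obtain ⟨A⟩ := exists_vx D.hX D.u2 D.hg
    obtain ⟨-, o8, -, -⟩ := e6_ords D A
    have h8 : A.a8 = 17 := by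
      have := A.h8
      have h3 : X ^ 4 + 1 = 17 := by rcases D.hX with h1 | h1 <;> rw [h1, hu] <;> norm_num
      rw [h3] at this
      exact_mod_cast this
    rw [h8] at o8
    have hM : M ∣ 73 ∨ M ∣ 57 ∨ M ∣ 13 ∨ M ∣ 17 := by
      rcases e6_M h D with h1 | h1 | ⟨h1, -⟩ <;> rcases D.hX with h2 | h2 <;> rw [h2, hu] at h1 <;> norm_num at h1
      · exact Or.inl (by exact_mod_cast h1)
      · exact Or.inr (Or.inl (by exact_mod_cast h1))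
      · exact Or.inr (Or.inr (Or.inl (by exact_mod_cast h1)))
      · exact Or.inr (Or.inr (Or.inl (by exact_mod_cast h1)))
      · exact Or.inr (Or.inr (Or.inr (by exact_mod_cast h1)))
      · exact Or.inr (Or.inr (Or.inr (by exact_mod_cast h1)))
    have hle : M ≤ 73 := by
      rcases hM with h1 | h1 | h1 | h1 <;> have := Nat.le_of_dvd (by norm_num) h1 <;> omega
    rcases small_M h with ⟨h1, -, h2⟩ | ⟨h1, -, h2⟩ | ⟨h1, -⟩
    · exact kill_r h o8 (Or.inl ⟨h1, h2⟩) (Or.inl rfl)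
    · exact kill_r h o8 (Or.inr ⟨h1, h2⟩) (Or.inl rfl)
    · omega
  · obtain ⟨A⟩ := exists_vx D.hX D.u2 D.hg
    obtain ⟨-, o8, -, -⟩ := e6_ords D A
    have h8 : A.a8 = 82 := by
      have := A.h8
      have h3 : X ^ 4 + 1 = 82 := by rcases D.hX with h1 | h1 <;> rw [h1, hu] <;> norm_num
      rw [h3] at this
      exact_mod_cast this
    rw [h8] at o8
    have o41 := ord_dvd o8 (show 41 ∣ 82 by norm_num)
    have hM : M ∣ 757 ∨ M ∣ 703 ∨ M ∣ 73 := by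
      rcases e6_M h D with h1 | h1 | ⟨-, h1⟩
      · rcases D.hX with h2 | h2 <;> rw [h2, hu] at h1 <;> norm_num at h1
        · exact Or.inl (by exact_mod_cast h1)
        · exact Or.inr (Or.inl (by exact_mod_cast h1))
      · rcases D.hX with h2 | h2 <;> rw [h2, hu] at h1 <;> norm_num at h1
        · exact Or.inr (Or.inr (by exact_mod_cast h1))
        · exact Or.inr (Or.inr (by exact_mod_cast h1))
      · omega
    rcases small_M h with ⟨h1, -, h2⟩ | ⟨h1, -, h2⟩ | ⟨h1, h2, h3⟩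
    · exact kill_r h o41 (Or.inl ⟨h1, h2⟩) (Or.inr rfl)
    · exact kill_r h o41 (Or.inr ⟨h1, h2⟩) (Or.inr rfl)
    · rcases hM with hM | hM | hM
      · rcases (Nat.dvd_prime (by norm_num)).1 hM with h4 | h4 <;> omega
      · obtain ⟨c, hc⟩ := hM
        have hc8 : c ≤ 8 := by nlinarith
        interval_cases c <;> omega
      · have := Nat.le_of_dvd (by norm_num) hM; omega
  · exact e6_big h D hu

end row

theorem exists_char (F : Type w) [Field F] [Fintype F] : ∃ v f : ℕ, ∃ _ : CharP F v, v.Prime ∧ 1 ≤ f ∧ Fintype.card F = v ^ f := by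
  obtain ⟨v, hv⟩ := CharP.exists F
  obtain ⟨n, hp, hn⟩ := FiniteField.card F v
  exact ⟨v, n, hv, hp, n.pos, hn⟩

/-- **Row `E₆(u)`.** -/
theorem row_E6 {F : Type w} [Field F] [Fintype F] {p M : ℕ} {x : ℤ} (hpF : (p : F) ≠ 0)
    (h : Cand p x M ↥(Lie.chevE6.group F)) : False := by
  obtain ⟨v, f, _, hv, hf, hcard⟩ := exists_char F
  exact e6_main h (e6Dat hv hcard hf)

/-- **Row `²E₆(u)`.** -/
theorem row_2E6 {K : Type w} [Field K] [Fintype K] {u : ℕ} (hu : IsPrimePow u) (hK : Fintype.card K = u ^ 2)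
    {p M : ℕ} {x : ℤ} (hpF : (p : K) ≠ 0) (h : Cand p x M ↥(Lie.twistedE6 K u)) : False := by
  obtain ⟨v, f, hv, hf, rfl⟩ := hu
  have hv := hv.nat_prime
  have : CharP K v := by
    obtain ⟨v', f', i, hv', hf', hc'⟩ := exists_char K
    rw [hK, ← pow_mul] at hc'
    have h1 : v ∣ v' ^ f' := by rw [← hc']; exact dvd_pow_self v (by omega)
    have h2 := (Nat.prime_dvd_prime_iff_eq hv hv').1 (hv.dvd_of_dvd_pow h1)
    rw [h2]; exact i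
  exact e6_main h (te6Dat hv hK hf)

end Cfsg.Agent.R2.Spec.X3.H18
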