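import Cfsg.Agent.R2.Spec.X3.Pair
import Cfsg.Agent.H437.Iso.Untw

/-!
# Box X3 of S3435, packet P-E: row `F₄(u)` (helper18)
-/

set_option autoImplicit false
set_option linter.unusedVariables false

namespace Cfsg.Agent.R2.Spec.X3.H18

open Cfsg Cfsg.Lie Cfsg.Agent.H437.Iso Cfsg.Agent.R2.Spec.X3
open Cfsg.Agent.H378.AdjTab Cfsg.Agent.H378.CycTab Cfsg.Agent.H378.ExcAdj Cfsg.Agent.H378.ExcNear
open Cfsg.Agent.Nodes.RGDChev Cfsg.Agent.BpExc.FamInst Cfsg.Agent.BpExc.RowsUntw Cfsg.Agent.BpExc.FamExt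

universe u

/-- `T = u⁴ + 1`, `N = u⁴ - u² + 1` -/
theorem f4_numC {p : ℕ} {x U : ℤ} (hU : 4 ≤ U) (h : PairOut p x (U ^ 2 + 1) (U ^ 2 - U + 1)) : False := by
  rcases h with ⟨h4, h5, h⟩ | ⟨h4, h5, h⟩
  · rcases h with ⟨h1, h2⟩ | ⟨-, h1, h2⟩ | ⟨-, a, ha, -, h1, h2⟩ | h1
    · linarith
    · linarith
    · have h3 : 2 * U = a * (x + 1) := by linear_combination h1 - h2
      have h6 : a * (a * (x + 1) ^ 2 - 2 * (x ^ 2 + 1)) = -4 := by
        linear_combination 2 * h1 - (2 * U + a * (x + 1)) * h3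
      rcases (by omega : a = 1 ∨ a = 2 ∨ 3 ≤ a) with rfl | rfl | ha3
      · nlinarith
      · nlinarith
      · have h7 : 3 * (x + 1) ^ 2 ≤ a * (x + 1) ^ 2 := mul_le_mul_of_nonneg_right ha3 (sq_nonneg _)
        have h8 : 0 < a * (x + 1) ^ 2 - 2 * (x ^ 2 + 1) := by nlinarith
        have := mul_pos (show (0 : ℤ) < a by linarith) h8
        linarith
    · simp only [excI, List.mem_cons, Prod.mk.injEq, List.not_mem_nil, or_false] at h1
      have h6 : U ≤ 40 := by
        by_contra hc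
        have : 41 * 41 ≤ U ^ 2 := by nlinarith
        omega
      interval_cases U <;> omega
  · rcases h with ⟨δ, hδ, ⟨h1, h2⟩ | ⟨-, h1, h2⟩ | ⟨-, a, ha, -, h1, h2⟩⟩ | ⟨h1, h2⟩ | h1
    · have h3 : x = δ * U - 2 := by linear_combination h2 - h1
      subst h3
      rcases hδ with rfl | rfl
      · nlinarith
      · nlinarith
    · have h3 : δ * U = 2 * x + 1 := by linear_combination h1 - h2
      rcases hδ with rfl | rfl
      · nlinarith
      · nlinarith
    · have h3 : a = δ * U := by linear_combination h2 - h1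
      subst h3
      have hδ0 : δ ≠ 0 := by rcases hδ with rfl | rfl <;> norm_num
      have h6 : U ^ 2 + 1 = U * (x ^ 2 + x + 1) := mul_left_cancel₀ hδ0 (by linear_combination h1)
      have h7 : U ∣ 1 := ⟨x ^ 2 + x + 1 - U, by linear_combination h6⟩
      have := Int.le_of_dvd (by norm_num) h7
      omega
    · have h3 : x = U := by linear_combination h2 - h1
      subst h3
      nlinarith
    · simp only [excII, List.mem_cons, Prod.mk.injEq, List.not_mem_nil, or_false] at h1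
      have h6 : U ≤ 420 := by
        by_contra hc
        have : 421 * 421 ≤ U ^ 2 := by nlinarith
        omega
      have key : ∀ t n : ℤ, U ^ 2 + 1 = t → U ^ 2 - U + 1 = n → U = t - n := fun t n e1 e2 => by linarith
      rcases h1 with h1 | h1 | h1 | h1 | h1 | h1 | h1 | h1 | h1 | h1 | h1 | h1 | h1 | h1 | h1 <;>
        obtain ⟨-, e1, e2⟩ := h1 <;> have e3 := key _ _ e1 e2 <;> norm_num at e3 <;> subst e3 <;> norm_num at e1

/-- `T = u⁴ - u² + 1`, `N = u⁴ + 1` -/
theorem f4_numD {p : ℕ} {x U : ℤ} (hU : 4 ≤ U) (h : PairOut p x (U ^ 2 - U + 1) (U ^ 2 + 1)) : x = -U := by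
  rcases h with ⟨h4, h5, h⟩ | ⟨h4, h5, h⟩
  · exfalso
    rcases h with ⟨h1, h2⟩ | ⟨-, h1, h2⟩ | ⟨-, a, ha, -, h1, h2⟩ | h1
    · linarith
    · have h3 : x = 2 * U + 1 := by linarith
      subst h3
      nlinarith
    · have h3 : -(2 * U) = a * (x + 1) := by linear_combination h1 - h2
      have := mul_pos (show (0 : ℤ) < a by linarith) (show (0 : ℤ) < x + 1 by linarith)
      linarith
    · simp only [excI, List.mem_cons, Prod.mk.injEq, List.not_mem_nil, or_false] at h1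
      have key : ∀ t n : ℤ, U ^ 2 - U + 1 = t → U ^ 2 + 1 = n → U = n - t := fun t n e1 e2 => by linarith
      rcases h1 with h1 | h1 | h1 | h1 | h1 | h1 | h1 | h1 <;>
        obtain ⟨-, e1, e2⟩ := h1 <;> have e3 := key _ _ e1 e2 <;> norm_num at e3 <;> subst e3 <;> norm_num at e1
  · rcases h with ⟨δ, hδ, ⟨h1, h2⟩ | ⟨-, h1, h2⟩ | ⟨-, a, ha, -, h1, h2⟩⟩ | ⟨h1, h2⟩ | h1
    · exfalso
      have h3 : x = -(δ * U) - 2 := by linear_combination h2 - h1
      subst h3
      rcases hδ with rfl | rfl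
      · nlinarith
      · nlinarith
    · exfalso
      have h3 : -(δ * U) = 2 * x + 1 := by linear_combination h1 - h2
      rcases hδ with rfl | rfl
      · nlinarith
      · nlinarith
    · exfalso
      have h3 : a = -(δ * U) := by linear_combination h2 - h1
      rcases hδ with rfl | rfl <;> linarith
    · linear_combination h2 - h1
    · exfalso
      simp only [excII, List.mem_cons, Prod.mk.injEq, List.not_mem_nil, or_false] at h1
      have key : ∀ t n : ℤ, U ^ 2 - U + 1 = t → U ^ 2 + 1 = n → U = n - t := fun t n e1 e2 => by linarith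
      rcases h1 with h1 | h1 | h1 | h1 | h1 | h1 | h1 | h1 | h1 | h1 | h1 | h1 | h1 | h1 | h1 <;>
        obtain ⟨-, e1, e2⟩ := h1 <;> have e3 := key _ _ e1 e2 <;> norm_num at e3 <;> subst e3 <;> norm_num at e1

/-- primes of `M` and a Bezout identity -/
theorem coprime_bez {p M : ℕ} {x : ℤ} {S : Type*} [Group S] (h : Cand p x M S) {T N : ℕ} (hT : M ∣ T) (a b κ : ℤ)
    (hκ : κ = 1 ∨ κ = 2 ∨ κ = 3) (hab : a * T + b * N = κ) : Nat.Coprime N M := by
  refine Nat.coprime_of_dvd fun k hk h1 h2 => ?_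
  have h3 : (k : ℤ) ∣ κ := by
    rw [← hab]
    exact dvd_add ((Int.natCast_dvd_natCast.2 (h2.trans hT)).mul_left _) ((Int.natCast_dvd_natCast.2 h1).mul_left _)
  have h4 := h.prime_facts hk h2
  rcases hκ with rfl | rfl | rfl
  · have h5 : k ∣ 1 := by exact_mod_cast h3
    exact hk.one_lt.ne' (Nat.dvd_one.1 h5)
  · have h5 : k ∣ 2 := by exact_mod_cast h3
    exact h4.1 ((Nat.prime_dvd_prime_iff_eq hk Nat.prime_two).1 h5)
  · have h5 : k ∣ 3 := by exact_mod_cast h3
    exact h4.2.1 ((Nat.prime_dvd_prime_iff_eq hk Nat.prime_three).1 h5)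

/-- `p` does not divide `|F|` -/
theorem not_dvd_card {F : Type*} [Field F] [Fintype F] {p : ℕ} (hp : p.Prime) (hpF : (p : F) ≠ 0) :
    ¬ p ∣ Nat.card F := by
  intro hd
  obtain ⟨c, hc⟩ := CharP.exists F
  obtain ⟨n, hcp, hn⟩ := FiniteField.card F c
  rw [Nat.card_eq_fintype_card, hn] at hd
  have h1 : p = c := (Nat.prime_dvd_prime_iff_eq hp hcp).1 (hp.dvd_of_dvd_pow hd)
  apply hpF
  rw [h1]
  exact CharP.cast_eq_zero F c

/-- **Row `F₄(u)`.** -/
theorem row_F4 {F : Type u} [Field F] [Fintype F] {p M : ℕ} {x : ℤ} (hpF : (p : F) ≠ 0)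
    (h : Cand p x M ↥(Lie.chevF4.group F)) : False := by
  obtain ⟨r, hr, hrM⟩ := h.exists_prime
  have hu : 2 ≤ Nat.card F := Finite.one_lt_card
  have hz8 : ((Nat.card F ^ 4 + 1 : ℕ) : ℤ) = (Nat.card F : ℤ) ^ 4 + 1 := by push_cast; rfl
  have huz : (2 : ℤ) ≤ Nat.card F := by exact_mod_cast hu
  have hu4 : (4 : ℤ) ≤ (Nat.card F : ℤ) ^ 2 := by nlinarith
  have e1 : (Nat.card F : ℤ) ^ 4 + 1 = ((Nat.card F : ℤ) ^ 2) ^ 2 + 1 := by ring
  have e2 : (Nat.card F : ℤ) ^ 4 - (Nat.card F : ℤ) ^ 2 + 1 = ((Nat.card F : ℤ) ^ 2) ^ 2 - (Nat.card F : ℤ) ^ 2 + 1 := by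
    ring
  rcases adj_F4 F hr (h.dvd_card hrM) with h1 | h1 | h1 | h1
  · exact (h.prime_facts hr hrM).1 h1
  · exact h.not_adj hr hrM h1
  · have hT : M ∣ Nat.card F ^ 4 + 1 := by
      refine h.dvd_of_cent hrM fun x hx => ?_
      have h2 := (H378.RegFin.cent_od f4T inv_F4 one_ne_zero hr hx h1 (by decide) (by norm_num)).2
      rw [eval_cyc8, ← hz8, Int.natAbs_natCast] at h2
      exact h2
    have hc : Nat.Coprime (Nat.card F ^ 4 - Nat.card F ^ 2 + 1) M := by
      refine coprime_bez h hT ((1 : ℤ) - (Nat.card F : ℤ) ^ 2) ((Nat.card F : ℤ) ^ 2) 1 (Or.inl rfl) ?_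
      rw [hz8, f4_cast12]
      ring
    have hp := h.pair f4_order8 hT f4_order12 (by omega) hc (by
      rw [hz8, f4_cast12]
      nlinarith [sq_nonneg ((Nat.card F : ℤ) ^ 2)])
    rw [hz8, f4_cast12, e1, e2] at hp
    exact f4_numC hu4 hp
  · have hT : M ∣ Nat.card F ^ 4 - Nat.card F ^ 2 + 1 := by
      refine h.dvd_of_cent hrM fun x hx => ?_
      have h2 := (H378.RegFin.cent_od f4T inv_F4 one_ne_zero hr hx h1 (by decide) (by norm_num)).2
      rw [eval_cyc12, ← f4_cast12, Int.natAbs_natCast] at h2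
      exact h2
    have hc : Nat.Coprime (Nat.card F ^ 4 + 1) M := by
      refine coprime_bez h hT ((Nat.card F : ℤ) ^ 2) ((1 : ℤ) - (Nat.card F : ℤ) ^ 2) 1 (Or.inl rfl) ?_
      rw [hz8, f4_cast12]
      ring
    have hp := h.pair f4_order12 hT f4_order8 (by omega) hc (by
      rw [hz8, f4_cast12]
      nlinarith [sq_nonneg ((Nat.card F : ℤ) ^ 2)])
    rw [hz8, f4_cast12, e1, e2] at hp
    have h2 := f4_numD hu4 hp
    have h3 := h.p_dvd
    rw [h2, dvd_neg] at h3
    have h4 : p ∣ Nat.card F ^ 2 := by exact_mod_cast h3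
    exact not_dvd_card h.hp hpF (h.hp.dvd_of_dvd_pow h4)

end Cfsg.Agent.R2.Spec.X3.H18
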