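import Cfsg.Agent.R2.Spec.X3.PE.H18.TD4Num
import Cfsg.Agent.R2.Spec.X3.PE.H18.E6
import Cfsg.Agent.R2.Spec.X3.PE.H18.F4
import Cfsg.Agent.R2.Spec.X4.H18.TD4

/-!
# Box X3 of S3435, packet P-E: row `³D₄(u)` (helper18)
-/

set_option autoImplicit false
set_option linter.unusedVariables false
set_option linter.unusedSectionVars false

namespace Cfsg.Agent.R2.Spec.X3.H18

open Cfsg Cfsg.Agent.R2.Spec.X3
open Cfsg.Agent.R2.Spec.X4.H18 (nc cop_int D4Dat d4Dat)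

universe w

theorem d4c {u : ℕ} (hu : 1 ≤ u) : ((u ^ 4 - u ^ 2 + 1 : ℕ) : ℤ) = (u : ℤ) ^ 4 - u ^ 2 + 1 := by
  have h3 : u ^ 2 ≤ u ^ 4 := Nat.pow_le_pow_right hu (by norm_num)
  push_cast [h3]; rfl

theorem d4cA {u : ℕ} (hu : 1 ≤ u) : (((u ^ 3 - 1) * (u + 1) : ℕ) : ℤ) = ((u : ℤ) ^ 2 - 1) * (u ^ 2 + 1 * u + 1) := by
  have h3u : 1 ≤ u ^ 3 := Nat.one_le_pow _ _ hu
  push_cast [h3u]; ring

theorem d4cB {u : ℕ} (hu : 1 ≤ u) : (((u ^ 3 + 1) * (u - 1) : ℕ) : ℤ) = ((u : ℤ) ^ 2 - 1) * (u ^ 2 + (-1) * u + 1) := by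
  push_cast [hu]; ring

section

variable {p M : ℕ} {x : ℤ} {S : Type*} [Group S] [Finite S] {v u : ℕ}

theorem d4_r (h : Cand p x M S) (D : D4Dat v u S) {r : ℕ} (hr : r.Prime) (hrM : r ∣ M) : (r : ℤ) ∣ (u : ℤ) ^ 4 - u ^ 2 + 1 := by
  refine D.near r hr (h.prime_facts hr hrM).1 (h.dvd_card hrM) ?_
  rintro ⟨y, hy⟩
  exact h.not_two_dvd hr hrM (g := y) (by rw [hy]; exact dvd_mul_left _ _) (by rw [hy]; exact dvd_mul_right _ _)

theorem d4_M (h : Cand p x M S) (D : D4Dat v u S) (hu : 2 ≤ u) : M ∣ u ^ 4 - u ^ 2 + 1 := by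
  have hc : (M : ℤ) ∣ (Nat.card S : ℕ) := by
    obtain ⟨y, hy⟩ := h.elt
    exact Int.natCast_dvd_natCast.2 (hy ▸ orderOf_dvd_natCard y)
  rw [D.card] at hc
  have h2 : 1 ≤ u ^ 2 := Nat.one_le_pow _ _ (by omega)
  have h6 : 1 ≤ u ^ 6 := Nat.one_le_pow _ _ (by omega)
  push_cast [h2, h6] at hc
  have e : (u : ℤ) ^ 12 * (u ^ 2 - 1) * (u ^ 6 - 1) * (u ^ 8 + u ^ 4 + 1) =
      (u ^ 12 * ((u ^ 2 - 1) * ((u ^ 6 - 1) * (u ^ 4 + u ^ 2 + 1)))) * (u ^ 4 - u ^ 2 + 1) := by ring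
  rw [e] at hc
  have key : ∀ {P : ℤ} (α β κ : ℤ), (κ = 1 ∨ κ = 2 ∨ κ = 3 ∨ κ = 6) → α * ((u : ℤ) ^ 4 - u ^ 2 + 1) + β * P = κ →
      IsCoprime (M : ℤ) P := fun α β κ hκ hab => cop_int fun r hr hrM hd =>
        nc hr (r5 h hr hrM) α β κ hκ hab (d4_r h D hr hrM) hd
  have c0 : IsCoprime (M : ℤ) (u : ℤ) := key 1 (-((u : ℤ) ^ 3 - u)) 1 (by norm_num) (by ring)
  have c1 : IsCoprime (M : ℤ) ((u : ℤ) ^ 2 - 1) := key 1 (-(u : ℤ) ^ 2) 1 (by norm_num) (by ring)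
  have c2 : IsCoprime (M : ℤ) ((u : ℤ) ^ 6 - 1) := key ((u : ℤ) ^ 2 + 1) (-1) 2 (by norm_num) (by ring)
  have c3 : IsCoprime (M : ℤ) ((u : ℤ) ^ 4 + u ^ 2 + 1) :=
    key (((u : ℤ) ^ 2 + 1)) (-((u : ℤ) ^ 2 - 1)) 2 (by norm_num) (by ring)
  have h1 := (c0.pow_right.mul_right (c1.mul_right (c2.mul_right c3))).dvd_of_dvd_mul_left hc
  rw [← d4c (by omega)] at h1
  exact Int.natCast_dvd_natCast.1 h1

/-- **the row** -/
theorem d4_main (h : Cand p x M S) (D : D4Dat v u S) (hpu : ¬ p ∣ u) : False := by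
  have hu2 : 2 ≤ u := by
    obtain ⟨f, hf, rfl⟩ := D.pw
    exact D.vp.two_le.trans (Nat.le_self_pow (by omega) v)
  have hM := d4_M h D hu2
  have hM13 := h.M_ge
  rcases (by omega : u = 2 ∨ 3 ≤ u) with hu | hu
  · -- `u = 2`
    rw [hu] at hM
    norm_num at hM
    have hM' := Nat.le_of_dvd (by norm_num) hM
    have o7 : ∃ y : S, orderOf y = 7 := ord_dvd D.exA (by rw [hu]; norm_num)
    rcases small_M h with ⟨h1, -, h2⟩ | ⟨-, h1, -⟩ | ⟨h1, -⟩
    · subst h1 h2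
      obtain ⟨y, hy⟩ := o7
      have hs := h.spec y
      rw [hy, Sp, cc_one (by norm_num)] at hs
      norm_num at hs
    · omega
    · omega
  · have hu0 : 1 ≤ u := by omega
    have huz : (3 : ℤ) ≤ u := by exact_mod_cast hu
    have hcA : Nat.Coprime ((u ^ 3 - 1) * (u + 1)) M := Cand.cop_of fun r hr hrM hd =>
      nc (T := (u : ℤ) ^ 4 - u ^ 2 + 1) (D := (u : ℤ) ^ 6 - 1) hr (r5 h hr hrM) ((u : ℤ) ^ 2 + 1) (-1) 2 (by norm_num)
        (by ring) (d4_r h D hr hrM) ((Int.natCast_dvd_natCast.2 hd).trans (by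
          rw [d4cA hu0]; exact ⟨(u : ℤ) ^ 2 - u + 1, by ring⟩))
    have hcB : Nat.Coprime ((u ^ 3 + 1) * (u - 1)) M := Cand.cop_of fun r hr hrM hd =>
      nc (T := (u : ℤ) ^ 4 - u ^ 2 + 1) (D := (u : ℤ) ^ 6 - 1) hr (r5 h hr hrM) ((u : ℤ) ^ 2 + 1) (-1) 2 (by norm_num)
        (by ring) (d4_r h D hr hrM) ((Int.natCast_dvd_natCast.2 hd).trans (by
          rw [d4cB hu0]; exact ⟨(u : ℤ) ^ 2 + u + 1, by ring⟩))
    obtain ⟨a, hTa, hodd, ha1, haI, haII⟩ := h.tor D.ex12 hM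
    have hTz : (u : ℤ) ^ 4 - u ^ 2 + 1 = a * M := by
      rw [← d4c hu0, hTa]; push_cast; ring
    have ha1z : (1 : ℤ) ≤ a := by exact_mod_cast ha1
    have hoddz : (a : ℤ) % 2 = 1 := by exact_mod_cast hodd
    have hp0 : (0 : ℤ) < p := by exact_mod_cast h.hp.pos
    rcases h.typ with hI | ⟨δ, hII⟩
    · obtain ⟨h1, h2, h3⟩ := hI
      have hT : 2 * ((u : ℤ) ^ 4 - u ^ 2 + 1) = a * (x ^ 2 + 1) := by
        rw [hTz]; linear_combination (a : ℤ) * h3
      have hpc : (p : ℤ) = x ∨ 5 * (p : ℤ) ≤ x := by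
        have := h.p_cases
        rwa [abs_of_nonneg (by omega : 0 ≤ x)] at this
      refine d4_numI huz h2 ha1z hoddz hT hp0 hpc h.p_dvd ?_
      rintro ε (rfl | rfl)
      · rw [← d4cA hu0]
        exact h.freeI D.exA hcA h1
      · rw [← d4cB hu0]
        exact h.freeI D.exB hcB h1
    · have hII' := hII
      obtain ⟨h1, h2, h3, h4⟩ := hII
      have hT : δ * ((u : ℤ) ^ 4 - u ^ 2 + 1) = a * (x ^ 2 + x + 1) := by
        rw [hTz]; linear_combination (a : ℤ) * h4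
      have hδ : δ = 1 ∨ δ = 3 := by rcases h3 with ⟨h3, -⟩ | ⟨h3, -⟩ <;> omega
      refine d4_numII (p := (p : ℤ)) (u := (u : ℤ)) ⟨huz, h2, h1, hp0, h.p_dvd, h.p_cases⟩ hδ ha1z hoddz hT ?_ ?_
      · intro he
        have h5 : (x + u ^ 2) * (x - (u - 1) * (u + 1)) = 0 := by linear_combination he
        rcases mul_eq_zero.1 h5 with h6 | h6
        · have h7 : (p : ℤ) ∣ (u : ℤ) ^ 2 := by
            have h8 := h.p_dvd
            have e : x = -(u : ℤ) ^ 2 := by linarith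
            rwa [e, dvd_neg] at h8
          have h8 : p ∣ u ^ 2 := by exact_mod_cast h7
          exact hpu (h.hp.dvd_of_dvd_pow h8)
        · obtain ⟨k, hk, hx⟩ := h.ex
          have h7 : x = (((u - 1) * (u + 1) : ℕ) : ℤ) := by
            push_cast [hu0]; linarith
          have h8 : (u - 1) * (u + 1) = p ^ k := by
            rw [← hx, h7, Int.natAbs_natCast]
          have k1 : p ∣ u - 1 := by
            obtain ⟨j, hj, hj'⟩ := (Nat.dvd_prime_pow h.hp).1 (Dvd.intro _ h8)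
            rw [hj']
            refine dvd_pow_self p ?_
            rintro rfl
            rw [pow_zero] at hj'
            omega
          have k2 : p ∣ u + 1 := by
            obtain ⟨j, hj, hj'⟩ := (Nat.dvd_prime_pow h.hp).1 (Dvd.intro_left _ h8)
            rw [hj']
            refine dvd_pow_self p ?_
            rintro rfl
            rw [pow_zero] at hj'
            omega
          have k3 : p ∣ 2 := by
            have := Nat.dvd_sub k2 k1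
            rwa [show u + 1 - (u - 1) = 2 by omega] at this
          have := Nat.le_of_dvd (by norm_num) k3
          have := h.h5
          omega
      · rintro ε (rfl | rfl)
        · rw [CondII, ← d4cA hu0]
          exact h.freeII D.exA hcA hII'
        · rw [CondII, ← d4cB hu0]
          exact h.freeII D.exB hcB hII'

end

/-- **Row `³D₄(u)`.** -/
theorem row_3D4 {K : Type w} [Field K] [Fintype K] {u : ℕ} (hu : IsPrimePow u) (hK : Fintype.card K = u ^ 3)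
    {p M : ℕ} {x : ℤ} (hpF : (p : K) ≠ 0) (h : Cand p x M ↥(Lie.twistedD4 K u)) : False := by
  have hpc := not_dvd_card h.hp hpF
  rw [Nat.card_eq_fintype_card, hK] at hpc
  obtain ⟨v, f, hv, hf, rfl⟩ := hu
  have hv := hv.nat_prime
  have : CharP K v := by
    obtain ⟨v', f', i, hv', hf', hc'⟩ := exists_char K
    rw [hK, ← pow_mul] at hc'
    have h1 : v ∣ v' ^ f' := by rw [← hc']; exact dvd_pow_self v (by omega)
    have h2 := (Nat.prime_dvd_prime_iff_eq hv hv').1 (hv.dvd_of_dvd_pow h1)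
    rw [h2]; exact i
  exact d4_main h (d4Dat hv hK hf) fun h1 => hpc (h1.trans (dvd_pow_self _ (by norm_num)))

end Cfsg.Agent.R2.Spec.X3.H18
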